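import Groth.Agent.Pi1.K260.D1Plan
import Groth.Agent.EtAcyc.K439.FinProd

/-!
# The product of two local solutions

`p1`, `p2`, `p3`: the projections of `Dom S S' m h m' h'`; `bet`: base change; `Phi`: the action of `G × G`.
-/

set_option autoImplicit false
universe u

open CategoryTheory CategoryTheory.Limits AlgebraicGeometry IsLocalRing

namespace K228.D1

open K260.D1

variable {G : Type} [Group G] {X Z W : Scheme.{u}} {j : X ⟶ Z} {w : W ⟶ X} {P₀ : FEt.Cat W} {ρ₀ : G →* Aut P₀}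
  {B B' M A : Scheme.{u}} {b : B ⟶ Z} {b' : B' ⟶ Z} {c : M ⟶ Z}

section

variable (S : Sol j w P₀ ρ₀ b) (S' : Sol j w P₀ ρ₀ b') (m : M ⟶ B) (h : m ≫ b = c) (m' : M ⟶ B')
    (h' : m' ≫ b' = c)

/-- The structure map to `X ×_Z M`. -/
noncomputable def pX : Dom S S' m h m' h' ⟶ pullback j c :=
  pullback.fst (pullback.snd S.P.hom (kap j m h)) (pullback.snd S'.P.hom (kap j m' h')) ≫
    pullback.snd S.P.hom (kap j m h)

/-- First projection. -/
noncomputable def p1 : Dom S S' m h m' h' ⟶ S.P.left :=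
  pullback.fst (pullback.snd S.P.hom (kap j m h)) (pullback.snd S'.P.hom (kap j m' h')) ≫
    pullback.fst S.P.hom (kap j m h)

/-- Second projection. -/
noncomputable def p2 : Dom S S' m h m' h' ⟶ S'.P.left :=
  pullback.snd (pullback.snd S.P.hom (kap j m h)) (pullback.snd S'.P.hom (kap j m' h')) ≫
    pullback.fst S'.P.hom (kap j m' h')

/-- Third projection. -/
noncomputable def p3 : Dom S S' m h m' h' ⟶ M := pX S S' m h m' h' ≫ pullback.snd j c

theorem kap_fst (m : M ⟶ B) (h : m ≫ b = c) : kap j m h ≫ pullback.fst j b = pullback.fst j c :=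
  pullback.lift_fst _ _ _

theorem kap_snd (m : M ⟶ B) (h : m ≫ b = c) : kap j m h ≫ pullback.snd j b = pullback.snd j c ≫ m :=
  pullback.lift_snd _ _ _

theorem p1_hom : p1 S S' m h m' h' ≫ S.P.hom = pX S S' m h m' h' ≫ kap j m h := by
  rw [p1, pX, Category.assoc, Category.assoc, pullback.condition]

theorem p2_hom : p2 S S' m h m' h' ≫ S'.P.hom = pX S S' m h m' h' ≫ kap j m' h' := by
  rw [p2, pX, Category.assoc, pullback.condition, ← Category.assoc, ← pullback.condition]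

theorem p1_fst : p1 S S' m h m' h' ≫ S.P.hom ≫ pullback.fst j b = pX S S' m h m' h' ≫ pullback.fst j c := by
  rw [← Category.assoc, p1_hom, Category.assoc, kap_fst]

theorem p2_fst : p2 S S' m h m' h' ≫ S'.P.hom ≫ pullback.fst j b' = pX S S' m h m' h' ≫ pullback.fst j c := by
  rw [← Category.assoc, p2_hom, Category.assoc, kap_fst]

theorem p1_snd : p1 S S' m h m' h' ≫ S.P.hom ≫ pullback.snd j b = p3 S S' m h m' h' ≫ m := by
  rw [← Category.assoc, p1_hom, Category.assoc, kap_snd, p3, Category.assoc]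

theorem p2_snd : p2 S S' m h m' h' ≫ S'.P.hom ≫ pullback.snd j b' = p3 S S' m h m' h' ≫ m' := by
  rw [← Category.assoc, p2_hom, Category.assoc, kap_snd, p3, Category.assoc]

theorem p12_fst : p1 S S' m h m' h' ≫ S.P.hom ≫ pullback.fst j b =
    p2 S S' m h m' h' ≫ S'.P.hom ≫ pullback.fst j b' := by
  rw [p1_fst, p2_fst]

variable {S S' m h m' h'}

theorem dom_ext {f g : A ⟶ Dom S S' m h m' h'} (h1 : f ≫ p1 S S' m h m' h' = g ≫ p1 S S' m h m' h')
    (h2 : f ≫ p2 S S' m h m' h' = g ≫ p2 S S' m h m' h') (h3 : f ≫ p3 S S' m h m' h' = g ≫ p3 S S' m h m' h') :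
    f = g := by
  have hX : f ≫ pX S S' m h m' h' = g ≫ pX S S' m h m' h' := by
    apply pullback.hom_ext
    · rw [Category.assoc, Category.assoc, ← p1_fst, ← Category.assoc, h1, Category.assoc]
    · rw [Category.assoc, Category.assoc]
      exact h3
  apply pullback.hom_ext
  · apply pullback.hom_ext
    · rw [Category.assoc, Category.assoc]
      exact h1
    · rw [Category.assoc, Category.assoc]
      exact hX
  · apply pullback.hom_ext
    · rw [Category.assoc, Category.assoc]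
      exact h2
    · rw [Category.assoc, Category.assoc, ← pullback.condition]
      exact hX

variable (x : A ⟶ S.P.left) (x' : A ⟶ S'.P.left) (l : A ⟶ M)
    (e : x ≫ S.P.hom ≫ pullback.snd j b = l ≫ m) (e' : x' ≫ S'.P.hom ≫ pullback.snd j b' = l ≫ m')
    (e'' : x ≫ S.P.hom ≫ pullback.fst j b = x' ≫ S'.P.hom ≫ pullback.fst j b')

theorem dp_p1 : dp S S' m h m' h' x x' l e e' e'' ≫ p1 S S' m h m' h' = x := by
  rw [dp, p1, pullback.lift_fst_assoc, S.kp_fst]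

theorem dp_p2 : dp S S' m h m' h' x x' l e e' e'' ≫ p2 S S' m h m' h' = x' := by
  rw [dp, p2, pullback.lift_snd_assoc, S'.kp_fst]

theorem dp_p3 : dp S S' m h m' h' x x' l e e' e'' ≫ p3 S S' m h m' h' = l := by
  rw [dp, p3, pX, Category.assoc, pullback.lift_fst_assoc, S.kp_snd_snd]

end

/-! ### Base change -/

section Bet

variable {M₂ : Scheme.{u}} {c₂ : M₂ ⟶ Z} (S : Sol j w P₀ ρ₀ b) (S' : Sol j w P₀ ρ₀ b') (m : M ⟶ B)
  (h : m ≫ b = c) (m' : M ⟶ B') (h' : m' ≫ b' = c) (m₂ : M₂ ⟶ B) (h₂ : m₂ ≫ b = c₂) (m₂' : M₂ ⟶ B')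
  (h₂' : m₂' ≫ b' = c₂) (n : M₂ ⟶ M) (e : n ≫ m = m₂) (e' : n ≫ m' = m₂')

/-- Base change along `n : M₂ ⟶ M`. -/
noncomputable def bet : Dom S S' m₂ h₂ m₂' h₂' ⟶ Dom S S' m h m' h' :=
  dp S S' m h m' h' (p1 S S' m₂ h₂ m₂' h₂') (p2 S S' m₂ h₂ m₂' h₂') (p3 S S' m₂ h₂ m₂' h₂' ≫ n)
    (by rw [p1_snd, Category.assoc, e]) (by rw [p2_snd, Category.assoc, e']) (p12_fst _ _ _ _ _ _)

theorem bet_p1 : bet S S' m h m' h' m₂ h₂ m₂' h₂' n e e' ≫ p1 S S' m h m' h' = p1 S S' m₂ h₂ m₂' h₂' := dp_p1 _ _ _ _ _ _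

theorem bet_p2 : bet S S' m h m' h' m₂ h₂ m₂' h₂' n e e' ≫ p2 S S' m h m' h' = p2 S S' m₂ h₂ m₂' h₂' := dp_p2 _ _ _ _ _ _

theorem bet_p3 : bet S S' m h m' h' m₂ h₂ m₂' h₂' n e e' ≫ p3 S S' m h m' h' = p3 S S' m₂ h₂ m₂' h₂' ≫ n :=
  dp_p3 _ _ _ _ _ _

theorem isPullback_bet : IsPullback (bet S S' m h m' h' m₂ h₂ m₂' h₂' n e e') (p3 S S' m₂ h₂ m₂' h₂')
    (p3 S S' m h m' h') n := by
  refine ⟨⟨bet_p3 _ _ _ _ _ _ _ _ _ _ _ _ _⟩, ⟨PullbackCone.IsLimit.mk _ (fun s => dp S S' m₂ h₂ m₂' h₂'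
    (s.fst ≫ p1 S S' m h m' h') (s.fst ≫ p2 S S' m h m' h') s.snd ?_ ?_ ?_) (fun s => ?_) (fun s => dp_p3 _ _ _ _ _ _)
    (fun s t h1 h2 => ?_)⟩⟩
  · rw [Category.assoc, p1_snd, ← Category.assoc, s.condition, Category.assoc, e]
  · rw [Category.assoc, p2_snd, ← Category.assoc, s.condition, Category.assoc, e']
  · rw [Category.assoc, Category.assoc, p12_fst]
  · apply dom_ext
    · rw [Category.assoc, bet_p1, dp_p1]
    · rw [Category.assoc, bet_p2, dp_p2]
    · rw [Category.assoc, bet_p3, ← Category.assoc, dp_p3, s.condition]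
  · apply dom_ext
    · rw [dp_p1, ← h1, Category.assoc, bet_p1]
    · rw [dp_p2, ← h1, Category.assoc, bet_p2]
    · rw [dp_p3, ← h2]

end Bet

/-! ### The action -/

section Phi

variable (S : Sol j w P₀ ρ₀ b) (S' : Sol j w P₀ ρ₀ b') (m : M ⟶ B)
  (h : m ≫ b = c) (m' : M ⟶ B') (h' : m' ≫ b' = c)

theorem act_hom {Y : Scheme.{u}} {P : FEt.Cat Y} (ρ : G →* Aut P) (g : G) : (ρ g).hom.left ≫ P.hom = P.hom :=
  Over.w (ρ g).hom.hom

theorem act_hom' {Y T : Scheme.{u}} {P : FEt.Cat Y} (ρ : G →* Aut P) (g : G) (x : A ⟶ P.left) (f : Y ⟶ T) :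
    (x ≫ (ρ g).hom.left) ≫ P.hom ≫ f = x ≫ P.hom ≫ f := by
  have : (ρ g).hom.left ≫ P.hom ≫ f = P.hom ≫ f := by rw [← Category.assoc, act_hom]
  rw [Category.assoc, this]

theorem act_mul {Y : Scheme.{u}} {P : FEt.Cat Y} (ρ : G →* Aut P) (g g' : G) :
    (ρ g).hom.left ≫ (ρ g').hom.left = (ρ (g' * g)).hom.left := by
  rw [map_mul]
  rfl

/-- The action of `G × G`. -/
noncomputable def Phi (g g' : G) : Dom S S' m h m' h' ⟶ Dom S S' m h m' h' :=
  dp S S' m h m' h' (p1 S S' m h m' h' ≫ (S.ρ g).hom.left) (p2 S S' m h m' h' ≫ (S'.ρ g').hom.left)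
    (p3 S S' m h m' h') (by rw [act_hom', p1_snd]) (by rw [act_hom', p2_snd]) (by rw [act_hom', act_hom', p12_fst])

theorem Phi_p1 (g g' : G) : Phi S S' m h m' h' g g' ≫ p1 S S' m h m' h' = p1 S S' m h m' h' ≫ (S.ρ g).hom.left :=
  dp_p1 _ _ _ _ _ _

theorem Phi_p2 (g g' : G) : Phi S S' m h m' h' g g' ≫ p2 S S' m h m' h' = p2 S S' m h m' h' ≫ (S'.ρ g').hom.left :=
  dp_p2 _ _ _ _ _ _

theorem Phi_p3 (g g' : G) : Phi S S' m h m' h' g g' ≫ p3 S S' m h m' h' = p3 S S' m h m' h' :=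
  dp_p3 _ _ _ _ _ _

end Phi

/-! ### The structure map -/

section Prin

set_option backward.isDefEq.respectTransparency false

variable (S : Sol j w P₀ ρ₀ b) (S' : Sol j w P₀ ρ₀ b') (m : M ⟶ B)
  (h : m ≫ b = c) (m' : M ⟶ B') (h' : m' ≫ b' = c)

theorem isFinite_pX : IsFinite (pX S S' m h m' h') := by
  have h1 : IsFinite S.P.hom := S.P.prop.1
  have h2 : IsFinite S'.P.hom := S'.P.prop.1
  unfold pX
  infer_instance

theorem etale_pX : Etale (pX S S' m h m' h') := by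
  have h1 : Etale S.P.hom := S.P.prop.2
  have h2 : Etale S'.P.hom := S'.P.prop.2
  unfold pX
  infer_instance

/-- `Dom` is a principal `G × G`-cover of `X ×_Z M`. -/
theorem exists_prin : ∃ (P : FEt.Cat (pullback j c)) (ρ : G × G →* Aut P), SGA1t.IsPrincipal (G × G) P ρ ∧
    ∃ e : P.left = Dom S S' m h m' h', P.hom = eqToHom e ≫ pX S S' m h m' h' := by
  refine ⟨K439.ClFin.prodF ((FEt.restrict (kap j m h)).obj S.P) ((FEt.restrict (kap j m' h')).obj S'.P), _,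
    K439.ClFin.isPrincipal_prod
      (Groth.Agent.Pi1.H408.PrincRestrict.isPrincipal_restrict (kap j m h) S.P S.ρ S.prin)
      (Groth.Agent.Pi1.H408.PrincRestrict.isPrincipal_restrict (kap j m' h') S'.P S'.ρ S'.prin), rfl, ?_⟩
  simp only [eqToHom_refl]
  exact (Category.id_comp _).symm

end Prin

end K228.D1
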