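import Groth.Agent.Pi1.K228.D1Stage
import Groth.Agent.Pi1.K228.D1Dom
import Groth.Agent.Pi1.K154.GlobExt

/-!
# Comparison of local solutions (node LOC2)

`loc2 : K260.D1.Loc2`.
-/

set_option autoImplicit false
universe u

open CategoryTheory CategoryTheory.Limits AlgebraicGeometry IsLocalRing

namespace K228.D1

open K260.D1 K868.Bc Groth.Agent.Etrest.StrictLoc

/-! ### Topology -/

theorem isClopen_family {T : Type*} [TopologicalSpace T] {I : Type} [Finite I] (K : I → Set T)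
    (hK : ∀ i, IsClopen (K i)) (Q : (I → Prop) → Prop) : IsClopen {z | Q (fun i => z ∈ K i)} := by
  classical
  have h1 : {z | Q (fun i => z ∈ K i)} = ⋃ v : {v : I → Prop // Q v}, ⋂ i, {z | (z ∈ K i) = v.1 i} := by
    ext z
    simp only [Set.mem_ofPred_eq, Set.mem_iUnion, Set.mem_iInter]
    constructor
    · intro h
      exact ⟨⟨_, h⟩, fun i => rfl⟩
    · rintro ⟨v, hv⟩
      have : (fun i => z ∈ K i) = v.1 := funext hv
      rw [this]
      exact v.2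
  rw [h1]
  refine isClopen_iUnion_of_finite fun v => isClopen_iInter_of_finite fun i => ?_
  by_cases hv : v.1 i
  · have : {z | (z ∈ K i) = v.1 i} = K i := by
      ext z
      simp only [Set.mem_ofPred_eq, eq_iff_iff, hv, iff_true]
    rw [this]
    exact hK i
  · have : {z | (z ∈ K i) = v.1 i} = (K i)ᶜ := by
      ext z
      simp only [Set.mem_ofPred_eq, eq_iff_iff, hv, iff_false, Set.mem_compl_iff]
    rw [this]
    exact (hK i).compl

theorem clSurj_iso {T' T : Scheme.{u}} (g : T' ⟶ T) [IsIso g] {V : Set T} (hV : ClSurj V) : ClSurj (g ⁻¹' V) := by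
  intro D hD hDc
  have hg : ∀ x, (inv g) (g x) = x := fun x => by rw [← Scheme.Hom.comp_apply, IsIso.hom_inv_id]; rfl
  have hg' : ∀ x, g ((inv g) x) = x := fun x => by rw [← Scheme.Hom.comp_apply, IsIso.inv_hom_id]; rfl
  obtain ⟨C, hC, hCD⟩ := hV ((inv g) ⁻¹' D) (by
      intro x hx
      have := hD hx
      simp only [Set.mem_preimage, hg'] at this
      exact this) (relClopen_preimage (inv g).continuous hD hDc (by
      intro x hx
      simp only [Set.mem_preimage, hg']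
      exact hx))
  refine ⟨g ⁻¹' C, hC.preimage g.continuous, ?_⟩
  rw [← Set.preimage_inter, hCD]
  ext x
  simp only [Set.mem_preimage, hg]

theorem clInj_iso {T' T : Scheme.{u}} (g : T' ⟶ T) [IsIso g] {V : Set T} (hV : ClInj V) : ClInj (g ⁻¹' V) := by
  intro C hC hCV
  have hg : ∀ x, (inv g) (g x) = x := fun x => by rw [← Scheme.Hom.comp_apply, IsIso.hom_inv_id]; rfl
  have hg' : ∀ x, g ((inv g) x) = x := fun x => by rw [← Scheme.Hom.comp_apply, IsIso.inv_hom_id]; rfl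
  have h1 := hV ((inv g) ⁻¹' C) (hC.preimage (inv g).continuous) (by
    ext x
    have := Set.ext_iff.1 hCV ((inv g) x)
    simp only [Set.mem_inter_iff, Set.mem_preimage, hg'] at this ⊢
    exact this)
  ext x
  have := Set.ext_iff.1 h1 (g x)
  simp only [Set.mem_preimage, hg] at this
  exact this

variable {G : Type} [Group G] {X Z W : Scheme.{u}} {j : X ⟶ Z} {w : W ⟶ X} {P₀ : FEt.Cat W} {ρ₀ : G →* Aut P₀}
  {B B' M A : Scheme.{u}} {b : B ⟶ Z} {b' : B' ⟶ Z} {c : M ⟶ Z}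

/-! ### The conditions at the strict localizations -/

section AtLoc

variable {R : Type u} [CommRing R] [IsLocalRing R] {p : Z ⟶ Spec (CommRingCat.of R)} (L : Loc p j w G)
  (S : Sol j w P₀ ρ₀ b) (S' : Sol j w P₀ ρ₀ b') (m : M ⟶ B) (h : m ≫ b = c) (m' : M ⟶ B') (h' : m' ≫ b' = c)

/-- The part over `W`. -/
def WS : Set ↥(Dom S S' m h m' h') := (pX S S' m h m' h' ≫ pullback.fst j c) ⁻¹' Set.range w

theorem exists_iso_dom {T : Scheme.{u}} (σ : T ⟶ M) {NA : Scheme.{u}} (a : NA ⟶ Dom S S' m h m' h') (fA : NA ⟶ T)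
    (sq : IsPullback a fA (p3 S S' m h m' h') σ) :
    ∃ (k : NA ⟶ Dom S S' (σ ≫ m) (c := σ ≫ c) (by rw [Category.assoc, h]) (σ ≫ m') (by rw [Category.assoc, h'])),
      IsIso k ∧ k ≫ bet S S' m h m' h' (σ ≫ m) (c₂ := σ ≫ c) (by rw [Category.assoc, h]) (σ ≫ m')
        (by rw [Category.assoc, h']) σ rfl rfl = a := by
  have sq' := isPullback_bet S S' m h m' h' (σ ≫ m) (c₂ := σ ≫ c) (by rw [Category.assoc, h]) (σ ≫ m')
    (by rw [Category.assoc, h']) σ rfl rfl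
  exact ⟨(sq.isoIsPullback _ _ sq').hom, inferInstance, sq.isoIsPullback_hom_fst _ _ sq'⟩

theorem bet_pX {M₂ : Scheme.{u}} {c₂ : M₂ ⟶ Z} (m₂ : M₂ ⟶ B) (h₂ : m₂ ≫ b = c₂) (m₂' : M₂ ⟶ B')
    (h₂' : m₂' ≫ b' = c₂) (n : M₂ ⟶ M) (e : n ≫ m = m₂) (e' : n ≫ m' = m₂') :
    bet S S' m h m' h' m₂ h₂ m₂' h₂' n e e' ≫ pX S S' m h m' h' ≫ pullback.fst j c =
      pX S S' m₂ h₂ m₂' h₂' ≫ pullback.fst j c₂ := by
  rw [← p1_fst, ← p1_fst, ← Category.assoc, bet_p1]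

theorem bet_WS {M₂ : Scheme.{u}} {c₂ : M₂ ⟶ Z} (m₂ : M₂ ⟶ B) (h₂ : m₂ ≫ b = c₂) (m₂' : M₂ ⟶ B')
    (h₂' : m₂' ≫ b' = c₂) (n : M₂ ⟶ M) (e : n ≫ m = m₂) (e' : n ≫ m' = m₂') :
    (bet S S' m h m' h' m₂ h₂ m₂' h₂' n e e') ⁻¹' WS S S' m h m' h' = WS S S' m₂ h₂ m₂' h₂' := by
  unfold WS
  rw [← bet_pX S S' m h m' h' m₂ h₂ m₂' h₂' n e e']
  rfl

include L in
theorem clSurj_dom (hc : Etale c) (y : M) (hy : p (c y) = closedPoint R) :
    AtLoc (p3 S S' m h m' h') y (fun a => ClSurj (a ⁻¹' WS S S' m h m' h')) := by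
  intro A _ _ σ hσ hσy NA a fA sq
  obtain ⟨k, hk, rfl⟩ := exists_iso_dom S S' m h m' h' σ a fA sq
  have h1 : IsStrictLoc (σ ≫ c) := hσ.comp c
  have hpt : p ((σ ≫ c) (closedPoint A)) = closedPoint R := by
    have : (σ ≫ c) (closedPoint A) = c (σ (closedPoint A)) := Scheme.Hom.comp_apply σ c _
    rw [this, hσy]
    exact hy
  obtain ⟨P, ρ, hP, e, he⟩ := exists_prin S S' (σ ≫ m) (c := σ ≫ c) (by rw [Category.assoc, h]) (σ ≫ m')
    (by rw [Category.assoc, h'])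
  have h2 := L.ff A (σ ≫ c) h1 hpt (pullback.fst j (σ ≫ c))
    (pullback.snd j (σ ≫ c)) (IsPullback.of_hasPullback _ _) P ρ hP
  have h3 : (k ≫ bet S S' m h m' h' (σ ≫ m) (c₂ := σ ≫ c) (by rw [Category.assoc, h]) (σ ≫ m')
        (by rw [Category.assoc, h']) σ rfl rfl) ⁻¹' WS S S' m h m' h' =
      (k ≫ eqToHom e.symm) ⁻¹' ((P.hom ≫ pullback.fst j (σ ≫ c)) ⁻¹' Set.range w) := by
    have h4 : (k ≫ bet S S' m h m' h' (σ ≫ m) (c₂ := σ ≫ c) (by rw [Category.assoc, h]) (σ ≫ m')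
        (by rw [Category.assoc, h']) σ rfl rfl) ≫ pX S S' m h m' h' ≫ pullback.fst j c =
        (k ≫ eqToHom e.symm) ≫ P.hom ≫ pullback.fst j (σ ≫ c) := by
      rw [Category.assoc, bet_pX, he]
      simp
    have h5 : ∀ x, (pX S S' m h m' h' ≫ pullback.fst j c) ((k ≫ bet S S' m h m' h' (σ ≫ m) (c₂ := σ ≫ c)
        (by rw [Category.assoc, h]) (σ ≫ m') (by rw [Category.assoc, h']) σ rfl rfl) x) =
        (P.hom ≫ pullback.fst j (σ ≫ c)) ((k ≫ eqToHom e.symm) x) := by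
      intro x
      rw [← Scheme.Hom.comp_apply, h4, Scheme.Hom.comp_apply]
    ext x
    show _ ∈ Set.range w ↔ _ ∈ Set.range w
    rw [h5]
  show ClSurj (_ ⁻¹' WS S S' m h m' h')
  rw [h3]
  exact clSurj_iso _ h2

include L in
theorem clInj_dom (hc : Etale c) (y : M) (hy : p (c y) = closedPoint R) :
    AtLoc (p3 S S' m h m' h') y (fun a => ClInj (a ⁻¹' WS S S' m h m' h')) := by
  intro A _ _ σ hσ hσy NA a fA sq
  obtain ⟨k, hk, rfl⟩ := exists_iso_dom S S' m h m' h' σ a fA sq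
  have h1 : IsStrictLoc (σ ≫ c) := hσ.comp c
  have hpt : p ((σ ≫ c) (closedPoint A)) = closedPoint R := by
    have : (σ ≫ c) (closedPoint A) = c (σ (closedPoint A)) := Scheme.Hom.comp_apply σ c _
    rw [this, hσy]
    exact hy
  have h2 := L.faith A (σ ≫ c) h1 hpt (pullback.fst j (σ ≫ c))
    (pullback.snd j (σ ≫ c)) (IsPullback.of_hasPullback _ _)
  have i1 := isFinite_pX S S' (σ ≫ m) (c := σ ≫ c) (by rw [Category.assoc, h]) (σ ≫ m')
    (by rw [Category.assoc, h'])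
  have i2 := etale_pX S S' (σ ≫ m) (c := σ ≫ c) (by rw [Category.assoc, h]) (σ ≫ m')
    (by rw [Category.assoc, h'])
  have e1 : (σ ≫ m) ≫ b = σ ≫ c := by rw [Category.assoc, h]
  have e2 : (σ ≫ m') ≫ b' = σ ≫ c := by rw [Category.assoc, h']
  have h3 := clInj_preimage (pX S S' (σ ≫ m) (c := σ ≫ c) e1 (σ ≫ m') e2) h2
  have h4 := clInj_iso k h3
  have h5 : (k ≫ bet S S' m h m' h' (σ ≫ m) (c₂ := σ ≫ c) (by rw [Category.assoc, h]) (σ ≫ m')
        (by rw [Category.assoc, h']) σ rfl rfl) ⁻¹' WS S S' m h m' h' =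
      k ⁻¹' ((bet S S' m h m' h' (σ ≫ m) (c₂ := σ ≫ c) (by rw [Category.assoc, h]) (σ ≫ m')
        (by rw [Category.assoc, h']) σ rfl rfl) ⁻¹' WS S S' m h m' h') := rfl
  show ClInj (_ ⁻¹' WS S S' m h m' h')
  rw [h5, bet_WS]
  exact h4

theorem qc_p3 [IsOpenImmersion j] [QuasiCompact j] : QuasiCompact (p3 S S' m h m' h') := by
  have := isFinite_pX S S' m h m' h'
  unfold p3
  infer_instance

theorem qs_p3 [IsOpenImmersion j] [QuasiCompact j] : QuasiSeparated (p3 S S' m h m' h') := by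
  have := isFinite_pX S S' m h m' h'
  unfold p3
  infer_instance

end AtLoc

/-! ### Evaluation -/

section Ev

/-- The value of `θ`. -/
noncomputable def ev (S : Sol j w P₀ ρ₀ b) (x : A ⟶ S.P.left) (y : A ⟶ W)
    (e : x ≫ S.P.hom ≫ pullback.fst j b = y ≫ w) : A ⟶ P₀.left := pullback.lift x y e ≫ S.θ

variable (S : Sol j w P₀ ρ₀ b)

theorem ev_hom (x : A ⟶ S.P.left) (y : A ⟶ W) (e : x ≫ S.P.hom ≫ pullback.fst j b = y ≫ w) :
    ev S x y e ≫ P₀.hom = y := by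
  rw [ev, Category.assoc, S.θ_hom, pullback.lift_snd]

theorem comp_ev {A' : Scheme.{u}} (k : A' ⟶ A) (x : A ⟶ S.P.left) (y : A ⟶ W)
    (e : x ≫ S.P.hom ≫ pullback.fst j b = y ≫ w) :
    k ≫ ev S x y e = ev S (k ≫ x) (k ≫ y) (by rw [Category.assoc, e, Category.assoc]) := by
  rw [ev, ev, ← Category.assoc]
  congr 1
  apply pullback.hom_ext
  · rw [Category.assoc, pullback.lift_fst, pullback.lift_fst]
  · rw [Category.assoc, pullback.lift_snd, pullback.lift_snd]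

theorem ev_congr {x x₁ : A ⟶ S.P.left} {y y₁ : A ⟶ W} (hx : x = x₁) (hy : y = y₁)
    (e : x ≫ S.P.hom ≫ pullback.fst j b = y ≫ w) :
    ev S x y e = ev S x₁ y₁ (by rw [← hx, ← hy, e]) := by
  subst hx hy
  rfl

theorem free {Y : Scheme.{u}} {P : FEt.Cat Y} {ρ : G →* Aut P} (hP : SGA1t.IsPrincipal G P ρ) {K : Type u} [Field K]
    [IsAlgClosed K] (x : Spec (CommRingCat.of K) ⟶ P.left) {a b : G}
    (h : x ≫ (ρ a).hom.left = x ≫ (ρ b).hom.left) : a = b := by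
  obtain ⟨g, -, hg⟩ := hP.2 K (x ≫ P.hom) ⟨x, rfl⟩ ⟨x ≫ (ρ b).hom.left, by rw [Category.assoc, act_hom]⟩
  rw [hg a (Subtype.ext h), hg b (Subtype.ext rfl)]

end Ev

/-! ### Good families of clopen subsets -/

section Good

/-- The clopen subset `Cl g` induces the locus `θ' = g θ` over `W`. -/
structure Good (S : Sol j w P₀ ρ₀ b) (S' : Sol j w P₀ ρ₀ b') (m : M ⟶ B) (h : m ≫ b = c) (m' : M ⟶ B')
    (h' : m' ≫ b' = c) (Cl : G → Set ↥(Dom S S' m h m' h')) : Prop where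
  clopen : ∀ g, IsClopen (Cl g)
  iff : ∀ (g : G) (K : Type u) [Field K] [IsAlgClosed K] (z : Spec (CommRingCat.of K) ⟶ Dom S S' m h m' h')
    (y : Spec (CommRingCat.of K) ⟶ W) (f : (z ≫ p1 S S' m h m' h') ≫ S.P.hom ≫ pullback.fst j b = y ≫ w)
    (f' : (z ≫ p2 S S' m h m' h') ≫ S'.P.hom ≫ pullback.fst j b' = y ≫ w),
    z default ∈ Cl g ↔ ev S' (z ≫ p2 S S' m h m' h') y f' = ev S (z ≫ p1 S S' m h m' h') y f ≫ (ρ₀ g).hom.left

variable (S : Sol j w P₀ ρ₀ b) (S' : Sol j w P₀ ρ₀ b') (m : M ⟶ B) (h : m ≫ b = c) (m' : M ⟶ B') (h' : m' ≫ b' = c)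

theorem Good.bet {Cl : G → Set ↥(Dom S S' m h m' h')} (H : Good S S' m h m' h' Cl) {M₂ : Scheme.{u}} {c₂ : M₂ ⟶ Z}
    (m₂ : M₂ ⟶ B) (h₂ : m₂ ≫ b = c₂) (m₂' : M₂ ⟶ B') (h₂' : m₂' ≫ b' = c₂) (n : M₂ ⟶ M) (e : n ≫ m = m₂)
    (e' : n ≫ m' = m₂') :
    Good S S' m₂ h₂ m₂' h₂' (fun g => (D1.bet S S' m h m' h' m₂ h₂ m₂' h₂' n e e') ⁻¹' Cl g) := by
  refine ⟨fun g => (H.clopen g).preimage (Scheme.Hom.continuous _), fun g K _ _ z y f f' => ?_⟩
  have e1 : z ≫ p1 S S' m₂ h₂ m₂' h₂' = (z ≫ D1.bet S S' m h m' h' m₂ h₂ m₂' h₂' n e e') ≫ p1 S S' m h m' h' := by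
    rw [Category.assoc, bet_p1]
  have e2 : z ≫ p2 S S' m₂ h₂ m₂' h₂' = (z ≫ D1.bet S S' m h m' h' m₂ h₂ m₂' h₂' n e e') ≫ p2 S S' m h m' h' := by
    rw [Category.assoc, bet_p2]
  have h1 := H.iff g K (z ≫ D1.bet S S' m h m' h' m₂ h₂ m₂' h₂' n e e') y (by rw [← e1, f]) (by rw [← e2, f'])
  rw [ev_congr S' e2 rfl, ev_congr S e1 rfl]
  exact h1

end Good

/-! ### Existence of good families -/

section Main

variable {R : Type u} [CommRing R] [IsLocalRing R] {p : Z ⟶ Spec (CommRingCat.of R)} (L : Loc p j w G)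
  (hP₀ : SGA1t.IsPrincipal G P₀ ρ₀) (S : Sol j w P₀ ρ₀ b) (S' : Sol j w P₀ ρ₀ b') (m : M ⟶ B) (h : m ≫ b = c)
  (m' : M ⟶ B') (h' : m' ≫ b' = c)

theorem range_WS : Set.range (pullback.fst (pX S S' m h m' h' ≫ pullback.fst j c) w) = WS S S' m h m' h' :=
  Scheme.Pullback.range_fst _ _

include L hP₀ h h' in
theorem exists_good [IsOpenImmersion j] [QuasiCompact j] [IsClosedImmersion w] [Finite G] (hc : Etale c) (y : M)
    (hy : p (c y) = closedPoint R) :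
    ∃ (M₂ : Scheme.{u}) (n : M₂ ⟶ M) (_ : Etale n) (y' : M₂) (_ : n y' = y) (h₂ : (n ≫ m) ≫ b = n ≫ c)
      (h₂' : (n ≫ m') ≫ b' = n ≫ c) (Cl : G → Set ↥(Dom S S' (n ≫ m) h₂ (n ≫ m') h₂')),
      Good S S' (n ≫ m) h₂ (n ≫ m') h₂' Cl := by
  have hqc := qc_p3 S S' m h m' h'
  have hqs := qs_p3 S S' m h m' h'
  let px : Dom S S' m h m' h' ⟶ X := pX S S' m h m' h' ≫ pullback.fst j c
  let q1 : pullback px w ⟶ Dom S S' m h m' h' := pullback.fst px w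
  let q2 : pullback px w ⟶ W := pullback.snd px w
  have hq : q1 ≫ px = q2 ≫ w := pullback.condition
  have f : (q1 ≫ p1 S S' m h m' h') ≫ S.P.hom ≫ pullback.fst j b = q2 ≫ w := by
    rw [Category.assoc, p1_fst]; exact hq
  have f' : (q1 ≫ p2 S S' m h m' h') ≫ S'.P.hom ≫ pullback.fst j b' = q2 ≫ w := by
    rw [Category.assoc, p2_fst]; exact hq
  obtain ⟨d, hd⟩ := K154.GlobExt.exists_diff P₀ ρ₀ hP₀ (ev S (q1 ≫ p1 S S' m h m' h') q2 f)
    (ev S' (q1 ≫ p2 S S' m h m' h') q2 f') (by rw [ev_hom, ev_hom])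
  have hcl : IsClosedImmersion q1 := inferInstance
  have hemb := q1.isClosedEmbedding
  have hr : Set.range q1 = WS S S' m h m' h' := range_WS S S' m h m' h'
  have hdc : ∀ U : Set G, IsClopen {t | d t ∈ U} := fun U =>
    ⟨⟨d.isLocallyConstant Uᶜ⟩, d.isLocallyConstant U⟩
  obtain ⟨M₂, n, hn, y', hy', Cl₀, hCl₀⟩ := exists_stages (p3 S S' m h m' h') y (WS S S' m h m' h')
    (fun g => q1 '' {t | d t ∈ ({g} : Set G)}) (fun g => by
      rw [← hr]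
      exact Set.image_subset_range _ _) (fun g => hemb.isClosedMap _ (hdc _).isClosed) (fun g => by
      have : WS S S' m h m' h' \ q1 '' {t | d t ∈ ({g} : Set G)} = q1 '' {t | d t ∈ ({g}ᶜ : Set G)} := by
        rw [← hr, ← Set.image_compl_eq_range_sdiff_image hemb.injective]
        rfl
      rw [this]
      exact hemb.isClosedMap _ (hdc _).isClosed) (clSurj_dom L S S' m h m' h' hc y hy)
  have h₂ : (n ≫ m) ≫ b = n ≫ c := by rw [Category.assoc, h]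
  have h₂' : (n ≫ m') ≫ b' = n ≫ c := by rw [Category.assoc, h']
  let β := bet S S' m h m' h' (n ≫ m) h₂ (n ≫ m') h₂' n rfl rfl
  let κ : Dom S S' (n ≫ m) h₂ (n ≫ m') h₂' ⟶ pullback (p3 S S' m h m' h') n :=
    pullback.lift β (p3 S S' (n ≫ m) h₂ (n ≫ m') h₂') (bet_p3 _ _ _ _ _ _ _ _ _ _ _ _ _)
  have hκ : κ ≫ pullback.fst (p3 S S' m h m' h') n = β := pullback.lift_fst _ _ _
  refine ⟨M₂, n, hn, y', hy', h₂, h₂', fun g => κ ⁻¹' Cl₀ g, fun g => (hCl₀ g).1.preimage κ.continuous, ?_⟩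
  intro g K _ _ z yy f₂ f₂'
  have e1 : z ≫ p1 S S' (n ≫ m) h₂ (n ≫ m') h₂' = (z ≫ β) ≫ p1 S S' m h m' h' := by
    rw [Category.assoc, bet_p1]
  have e2 : z ≫ p2 S S' (n ≫ m) h₂ (n ≫ m') h₂' = (z ≫ β) ≫ p2 S S' m h m' h' := by
    rw [Category.assoc, bet_p2]
  have e3 : (z ≫ β) ≫ px = yy ≫ w := by
    show (z ≫ β) ≫ pX S S' m h m' h' ≫ pullback.fst j c = yy ≫ w
    rw [← p1_fst, ← Category.assoc, ← e1, f₂]
  let kk : Spec (CommRingCat.of K) ⟶ pullback px w := pullback.lift (z ≫ β) yy e3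
  have hk1 : kk ≫ q1 = z ≫ β := pullback.lift_fst _ _ _
  have hk2 : kk ≫ q2 = yy := pullback.lift_snd _ _ _
  have h3 : pullback.fst (p3 S S' m h m' h') n (κ (z default)) = q1 (kk default) := by
    rw [← Scheme.Hom.comp_apply, hκ, ← Scheme.Hom.comp_apply, ← hk1, Scheme.Hom.comp_apply]
  have h4 : z default ∈ κ ⁻¹' Cl₀ g ↔ d (kk default) = g := by
    have h5 := Set.ext_iff.1 (hCl₀ g).2 (κ (z default))
    simp only [Set.mem_inter_iff, Set.mem_preimage, h3] at h5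
    rw [Set.mem_preimage]
    constructor
    · intro hz
      obtain ⟨t, ht, e⟩ := h5.1 ⟨hz, by rw [← hr]; exact ⟨_, rfl⟩⟩
      rw [← hemb.injective e]
      exact ht
    · intro hz
      exact (h5.2 ⟨kk default, hz, rfl⟩).1
  have h6 := hd kk (d (kk default)) (fun t => by rw [Subsingleton.elim t default])
  have h7 : kk ≫ ev S (q1 ≫ p1 S S' m h m' h') q2 f = ev S (z ≫ p1 S S' (n ≫ m) h₂ (n ≫ m') h₂') yy f₂ := by
    rw [comp_ev]
    exact ev_congr S (by rw [e1, ← hk1, Category.assoc]) hk2 _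
  have h7' : kk ≫ ev S' (q1 ≫ p2 S S' m h m' h') q2 f' =
      ev S' (z ≫ p2 S S' (n ≫ m) h₂ (n ≫ m') h₂') yy f₂' := by
    rw [comp_ev]
    exact ev_congr S' (by rw [e2, ← hk1, Category.assoc]) hk2 _
  rw [h7', ← Category.assoc, h7] at h6
  rw [h4, h6]
  constructor
  · rintro rfl
    rfl
  · intro h8
    exact free hP₀ _ h8

include hP₀ in
theorem Good.on_WS {Cl : G → Set ↥(Dom S S' m h m' h')} (H : Good S S' m h m' h' Cl)
    (z : ↥(Dom S S' m h m' h')) (hz : z ∈ WS S S' m h m' h') :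
    (∃! g, z ∈ Cl g) ∧ ∀ γ γ' g, z ∈ Cl g → Phi S S' m h m' h' γ γ' z ∈ Cl (γ' * g * γ⁻¹) := by
  rw [← range_WS] at hz
  obtain ⟨t, rfl⟩ := hz
  obtain ⟨Ω, _, _, ζ, hζ⟩ := K154.GlobExt.exists_geomPt t
  let px : Dom S S' m h m' h' ⟶ X := pX S S' m h m' h' ≫ pullback.fst j c
  let zz : Spec (CommRingCat.of Ω) ⟶ Dom S S' m h m' h' := ζ ≫ pullback.fst px w
  let yy : Spec (CommRingCat.of Ω) ⟶ W := ζ ≫ pullback.snd px w
  have hzz : pullback.fst px w t = zz default := by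
    rw [Scheme.Hom.comp_apply, hζ]
  have hq : zz ≫ px = yy ≫ w := by
    rw [Category.assoc, Category.assoc, pullback.condition]
  clear_value zz yy
  have f : (zz ≫ p1 S S' m h m' h') ≫ S.P.hom ≫ pullback.fst j b = yy ≫ w := by
    rw [Category.assoc, p1_fst]; exact hq
  have f' : (zz ≫ p2 S S' m h m' h') ≫ S'.P.hom ≫ pullback.fst j b' = yy ≫ w := by
    rw [Category.assoc, p2_fst]; exact hq
  show (∃! g, pullback.fst px w t ∈ Cl g) ∧ ∀ γ γ' g, pullback.fst px w t ∈ Cl g →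
    Phi S S' m h m' h' γ γ' (pullback.fst px w t) ∈ Cl (γ' * g * γ⁻¹)
  rw [hzz]
  constructor
  · obtain ⟨g, hg, hgu⟩ := hP₀.2 Ω yy ⟨ev S _ yy f, ev_hom _ _ _ _⟩ ⟨ev S' _ yy f', ev_hom _ _ _ _⟩
    refine ⟨g, (H.iff g Ω zz yy f f').2 (congrArg Subtype.val hg).symm, fun g' hg' => hgu g' (Subtype.ext ?_)⟩
    exact ((H.iff g' Ω zz yy f f').1 hg').symm
  · intro γ γ' g hg
    have h1 := (H.iff g Ω zz yy f f').1 hg
    have e1 : (zz ≫ Phi S S' m h m' h' γ γ') ≫ p1 S S' m h m' h' = (zz ≫ p1 S S' m h m' h') ≫ (S.ρ γ).hom.left := by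
      rw [Category.assoc, Phi_p1, Category.assoc]
    have e2 : (zz ≫ Phi S S' m h m' h' γ γ') ≫ p2 S S' m h m' h' = (zz ≫ p2 S S' m h m' h') ≫ (S'.ρ γ').hom.left := by
      rw [Category.assoc, Phi_p2, Category.assoc]
    have f₂ : ((zz ≫ p1 S S' m h m' h') ≫ (S.ρ γ).hom.left) ≫ S.P.hom ≫ pullback.fst j b = yy ≫ w := by
      rw [act_hom', f]
    have f₂' : ((zz ≫ p2 S S' m h m' h') ≫ (S'.ρ γ').hom.left) ≫ S'.P.hom ≫ pullback.fst j b' = yy ≫ w := by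
      rw [act_hom', f']
    have h2 := (H.iff (γ' * g * γ⁻¹) Ω (zz ≫ Phi S S' m h m' h' γ γ') yy (by rw [e1, f₂]) (by rw [e2, f₂'])).2
    rw [Scheme.Hom.comp_apply] at h2
    apply h2
    rw [ev_congr S e1 rfl, ev_congr S' e2 rfl]
    have a1 : ev S _ yy f₂ = ev S _ yy f ≫ (ρ₀ γ).hom.left := by
      exact (S.θ_act γ Ω _ yy f f₂).trans (Category.assoc _ _ _).symm
    have a2 : ev S' _ yy f₂' = ev S' _ yy f' ≫ (ρ₀ γ').hom.left := by
      exact (S'.θ_act γ' Ω _ yy f' f₂').trans (Category.assoc _ _ _).symm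
    rw [a1, a2, h1, Category.assoc, Category.assoc, act_mul, act_mul, inv_mul_cancel_right]

include L hP₀ in
theorem exists_shrink_good [IsOpenImmersion j] [QuasiCompact j] [IsClosedImmersion w] [Finite G] (hc : Etale c) (y : M)
    (hy : p (c y) = closedPoint R) {Cl : G → Set ↥(Dom S S' m h m' h')} (H : Good S S' m h m' h' Cl) :
    ∃ O : M.Opens, y ∈ O ∧ ∀ z : ↥(Dom S S' m h m' h'), p3 S S' m h m' h' z ∈ O →
      (∃! g, z ∈ Cl g) ∧ ∀ γ γ' g, z ∈ Cl g → Phi S S' m h m' h' γ γ' z ∈ Cl (γ' * g * γ⁻¹) := by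
  have hqc := qc_p3 S S' m h m' h'
  have hqs := qs_p3 S S' m h m' h'
  let T : Set ↥(Dom S S' m h m' h') := {z | (∃! g, z ∈ Cl g) ∧ ∀ γ γ' g, z ∈ Cl g →
    Phi S S' m h m' h' γ γ' z ∈ Cl (γ' * g * γ⁻¹)}
  have hT : IsClopen T := by
    have := isClopen_family (I := G ⊕ G × G × G)
      (fun i => Sum.elim (fun g => Cl g) (fun x => (Phi S S' m h m' h' x.1 x.2.1) ⁻¹' Cl (x.2.1 * x.2.2 * x.1⁻¹)) i)
      (by
        rintro (g | x)
        · exact H.clopen g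
        · exact (H.clopen _).preimage (Scheme.Hom.continuous _))
      (fun v => (∃! g, v (Sum.inl g)) ∧ ∀ γ γ' g, v (Sum.inl g) → v (Sum.inr (γ, γ', g)))
    exact this
  obtain ⟨O, hyO, hO⟩ := exists_shrink (p3 S S' m h m' h') y Tᶜ hT.compl.isClosed (by
    intro A _ _ σ hσ hσy NA a fA sq
    have h1 : ClInj (a ⁻¹' WS S S' m h m' h') := clInj_dom L S S' m h m' h' hc y hy A σ hσ hσy a fA sq
    refine h1 _ (hT.compl.preimage a.continuous) ?_
    rw [← Set.preimage_inter]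
    ext x
    simp only [Set.mem_preimage, Set.mem_inter_iff, Set.mem_compl_iff, Set.mem_empty_iff_false, iff_false, not_and]
    intro hx hx'
    exact hx (H.on_WS hP₀ S S' m h m' h' (a x) hx'))
  exact ⟨O, hyO, fun z hz => not_not.1 (hO z hz)⟩

theorem bet_Phi {M₂ : Scheme.{u}} {c₂ : M₂ ⟶ Z} (m₂ : M₂ ⟶ B) (h₂ : m₂ ≫ b = c₂) (m₂' : M₂ ⟶ B')
    (h₂' : m₂' ≫ b' = c₂) (n : M₂ ⟶ M) (e : n ≫ m = m₂) (e' : n ≫ m' = m₂') (γ γ' : G) :
    Phi S S' m₂ h₂ m₂' h₂' γ γ' ≫ bet S S' m h m' h' m₂ h₂ m₂' h₂' n e e' =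
      bet S S' m h m' h' m₂ h₂ m₂' h₂' n e e' ≫ Phi S S' m h m' h' γ γ' := by
  apply dom_ext
  · rw [Category.assoc, bet_p1, Phi_p1, Category.assoc, Phi_p1, ← Category.assoc, bet_p1]
  · rw [Category.assoc, bet_p2, Phi_p2, Category.assoc, Phi_p2, ← Category.assoc, bet_p2]
  · rw [Category.assoc, bet_p3, ← Category.assoc, Phi_p3, Category.assoc, Phi_p3, bet_p3]

theorem exists_del {Cl : G → Set ↥(Dom S S' m h m' h')} (H : Good S S' m h m' h' Cl)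
    (hC : ∀ z : ↥(Dom S S' m h m' h'), (∃! g, z ∈ Cl g) ∧ ∀ γ γ' g, z ∈ Cl g →
      Phi S S' m h m' h' γ γ' z ∈ Cl (γ' * g * γ⁻¹)) : ∃ δ, Del S S' m h m' h' δ := by
  choose δ hδ hδu using fun z => (hC z).1
  refine ⟨δ, ?_, ?_, ?_⟩
  · rw [IsLocallyConstant.iff_isOpen_fiber]
    intro g
    have h3 : δ ⁻¹' {g} = Cl g := by
      ext z
      constructor
      · rintro rfl
        exact hδ z
      · intro hz
        exact (hδu z g hz).symm
    rw [h3]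
    exact (H.clopen g).isOpen
  · intro K _ _ x x' l e e' e'' g g' f f' f''
    have h3 : dp S S' m h m' h' _ _ l f f' f'' = dp S S' m h m' h' x x' l e e' e'' ≫ Phi S S' m h m' h' g g' := by
      apply dom_ext
      · rw [dp_p1, Category.assoc, Phi_p1, ← Category.assoc, dp_p1]
      · rw [dp_p2, Category.assoc, Phi_p2, ← Category.assoc, dp_p2]
      · rw [dp_p3, Category.assoc, Phi_p3, dp_p3]
    rw [h3, Scheme.Hom.comp_apply]
    exact (hδu _ _ ((hC _).2 g g' _ (hδ _))).symm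
  · intro K _ _ x x' l e e' e'' y f f'
    have h3 := (H.iff (δ (dp S S' m h m' h' x x' l e e' e'' default)) K (dp S S' m h m' h' x x' l e e' e'') y
      (by rw [dp_p1, f]) (by rw [dp_p2, f'])).1 (hδ _)
    have h4 : ev S' x' y f' = ev S x y f ≫ (ρ₀ (δ (dp S S' m h m' h' x x' l e e' e'' default))).hom.left := by
      rw [ev_congr S' (dp_p2 x x' l e e' e'') rfl, ev_congr S (dp_p1 x x' l e e' e'') rfl] at h3
      exact h3
    exact h4.trans (Category.assoc _ _ _)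

end Main

/-- **Node LOC2**. -/
theorem loc2 : Loc2.{u} := by
  intro R _ _ X Z W p j w hj hjq hw G _ _ L P₀ ρ₀ hP₀ B B' b b' hb hb' S S' y hy
  have h' : pullback.snd b b' ≫ b' = pullback.fst b b' ≫ b := pullback.condition.symm
  have hc : Etale (pullback.fst b b' ≫ b) := inferInstance
  obtain ⟨M₁, n₁, hn₁, y₁, hy₁, h₁, h₁', Cl₁, H₁⟩ := exists_good L hP₀ S S' (pullback.fst b b') rfl
    (pullback.snd b b') h' hc y (by rw [Scheme.Hom.comp_apply, hy])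
  have hc₁ : Etale (n₁ ≫ pullback.fst b b' ≫ b) := inferInstance
  obtain ⟨O, hyO, hO⟩ := exists_shrink_good L hP₀ S S' (n₁ ≫ pullback.fst b b') h₁ (n₁ ≫ pullback.snd b b') h₁' hc₁
    y₁ (by rw [Scheme.Hom.comp_apply, hy₁, Scheme.Hom.comp_apply, hy]) H₁
  have h₂ : (O.ι ≫ n₁ ≫ pullback.snd b b') ≫ b' = (O.ι ≫ n₁ ≫ pullback.fst b b') ≫ b := by
    simp only [Category.assoc, h']
  have hl : pullback.lift (O.ι ≫ n₁ ≫ pullback.fst b b') (O.ι ≫ n₁ ≫ pullback.snd b b') h₂.symm = O.ι ≫ n₁ := by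
    apply pullback.hom_ext
    · rw [pullback.lift_fst, Category.assoc]
    · rw [pullback.lift_snd, Category.assoc]
  have H₂ := H₁.bet S S' _ h₁ _ h₁' (O.ι ≫ n₁ ≫ pullback.fst b b') rfl (O.ι ≫ n₁ ≫ pullback.snd b b') h₂ O.ι rfl rfl
  obtain ⟨δ, hδ⟩ := exists_del S S' _ rfl _ h₂ H₂ (by
    intro z
    have h3 := hO (bet S S' _ h₁ _ h₁' (O.ι ≫ n₁ ≫ pullback.fst b b') rfl (O.ι ≫ n₁ ≫ pullback.snd b b') h₂ O.ι
        rfl rfl z) (by
      rw [← Scheme.Hom.comp_apply, bet_p3, Scheme.Hom.comp_apply]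
      exact (p3 S S' _ rfl _ h₂ z).2)
    refine ⟨h3.1, fun γ γ' g hg => ?_⟩
    rw [Set.mem_preimage, ← Scheme.Hom.comp_apply, bet_Phi, Scheme.Hom.comp_apply]
    exact h3.2 γ γ' g hg)
  refine ⟨O, _, _, h₂, by rw [hl]; infer_instance, ⟨y₁, hyO⟩, ?_, δ, hδ⟩
  rw [hl]
  exact hy₁

end K228.D1
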