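import Groth.Agent.Pi1.K868.BcPBC
import Groth.Agent.Sga1.UlaSL

/-!
# Clopen subsets and étale neighbourhoods

* `exists_stages`: finitely many closed subsets of `W ⊆ N` with closed complements are induced by clopen subsets over
  an étale neighbourhood of `y` if this holds over the strict localization at `y`.
* `exists_shrink`: a clopen subset which is empty over the strict localization at `y` is empty over a neighbourhood.
* `clInj_preimage`: `ClInj` and finite étale morphisms.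
-/

set_option autoImplicit false
universe u

open CategoryTheory CategoryTheory.Limits AlgebraicGeometry IsLocalRing

namespace K228.D1

open K868.Bc K868.Bc.PBC EtDesc Groth.Agent.Sga4A.EtStalk Groth.Agent.Etbc.H230.ConstSets
  Groth.Agent.Etrest.StrictLoc Groth.Agent.EtpbcB Groth.Agent.EtpbcB.StrictLoc Groth.Agent.EtpbcB.OshHens

/-- `Q` holds for the part over all strict localizations at `y`. -/
def AtLoc {C N : Scheme.{u}} (h : N ⟶ C) (y : C) (Q : ∀ {NA : Scheme.{u}}, (NA ⟶ N) → Prop) : Prop :=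
  ∀ (A : Type u) [CommRing A] [IsLocalRing A] (σ : Spec (CommRingCat.of A) ⟶ C), IsStrictLoc σ →
    σ (closedPoint A) = y → ∀ ⦃NA : Scheme.{u}⦄ (a : NA ⟶ N) (fA : NA ⟶ Spec (CommRingCat.of A)),
      IsPullback a fA h σ → Q a

theorem AtLoc.osh {C N : Scheme.{u}} {h : N ⟶ C} {y : C} {Q : ∀ {NA : Scheme.{u}}, (NA ⟶ N) → Prop}
    (H : AtLoc h y @Q) {Ω : Type u} [Field Ω] [IsSepClosed Ω] (ρ : Spec (CommRingCat.of Ω) ⟶ C)
    (hρ : ρ default = y) : Q (pullback.fst h (toBase ρ)) := by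
  refine @H (Osh ρ) _ inferInstance (toBase ρ) (isStrictLoc_toBase ρ) ?_ _ (pullback.fst h (toBase ρ))
    (pullback.snd h (toBase ρ)) (IsPullback.of_hasPullback h (toBase ρ))
  rw [← hρ, ← pt_default ρ, ← Scheme.Hom.comp_apply, pt_toBase]

theorem exists_stages {C₀ N : Scheme.{u}} (h : N ⟶ C₀) [QuasiCompact h] [QuasiSeparated h] (y : C₀) {I : Type*}
    [Finite I] (W : Set N) (E : I → Set N) (hEW : ∀ i, E i ⊆ W) (hE : ∀ i, IsClosed (E i))
    (hE' : ∀ i, IsClosed (W \ E i)) (hs : AtLoc h y (fun a => ClSurj (a ⁻¹' W))) :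
    ∃ (M : Scheme.{u}) (n : M ⟶ C₀) (_ : Etale n) (y' : M) (_ : n y' = y) (Cl : I → Set ↥(pullback h n)),
      ∀ i, IsClopen (Cl i) ∧ Cl i ∩ (pullback.fst h n) ⁻¹' W = (pullback.fst h n) ⁻¹' E i := by
  classical
  obtain ⟨Ω, _, _, ρ, hρ⟩ := exists_geomPoint _ y
  have hs' : ClSurj ((pullback.fst h (toBase ρ)) ⁻¹' W) := AtLoc.osh (Q := fun a => ClSurj (a ⁻¹' W)) hs ρ hρ
  have h1 := fun i : I => exists_ind ρ (IsPullback.of_hasPullback h (toBase ρ)) (hEW i) (hE i) (hE' i) hs'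
  choose k s hk using h1
  obtain ⟨m, hm⟩ := IsCofiltered.inf_objs_exists (Set.finite_range k).toFinset
  have hm' : ∀ i : I, Nonempty (m ⟶ k i) := fun i => hm (by simp)
  have hM : Etale ((D ρ).obj m).hom := inferInstance
  refine ⟨((D ρ).obj m).left, ((D ρ).obj m).hom, hM, lft ρ m default, ?_, ?_⟩
  · rw [← Scheme.Hom.comp_apply, lft_hom, hρ]
  let κ : pullback h ((D ρ).obj m).hom ⟶ ((EtCoh.bc h).obj ((D ρ).obj m)).left :=
    (pullbackSymmetry h ((D ρ).obj m).hom).hom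
  have hκ : κ ≫ ((EtCoh.bc h).obj ((D ρ).obj m)).hom = pullback.fst h ((D ρ).obj m).hom :=
    pullbackSymmetry_hom_comp_snd _ _
  refine ⟨fun i => κ ⁻¹' clop ((C N Two.{u}).obj.map ((EtCoh.bc h).map ((D ρ).map (hm' i).some)).op (s i)),
    fun i => ⟨(isClopen_clop _).preimage κ.continuous, ?_⟩⟩
  have h2 := (hk i).res ((D ρ).map (hm' i).some)
  unfold Ind at h2
  rw [← hκ]
  ext x
  have h3 := Set.ext_iff.1 h2 (κ x)
  simp only [Set.mem_inter_iff, Set.mem_preimage, Scheme.Hom.comp_apply] at h3 ⊢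
  exact h3

theorem exists_shrink {C N : Scheme.{u}} (h : N ⟶ C) [QuasiCompact h] [QuasiSeparated h] (y : C) (T : Set N)
    (hT : IsClosed T) (hs : AtLoc h y (fun a => a ⁻¹' T = ∅)) :
    ∃ O : C.Opens, y ∈ O ∧ ∀ z : N, h z ∈ O → z ∉ T := by
  obtain ⟨Ω, _, _, ρ, hρ⟩ := exists_geomPoint _ y
  have hs' : (pullback.fst h (toBase ρ)) ⁻¹' T = ∅ := AtLoc.osh (Q := fun a => a ⁻¹' T = ∅) hs ρ hρ
  let sq := IsPullback.of_hasPullback h (toBase ρ)
  obtain ⟨j, g, hg⟩ := exists_shrink_stage ρ sq (i₀ ρ)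
    (((EtCoh.bc h).obj ((D ρ).obj (i₀ ρ))).hom ⁻¹' T)
    (hT.preimage ((EtCoh.bc h).obj ((D ρ).obj (i₀ ρ))).hom.continuous) (by
      rw [← hs']
      ext x
      simp only [Set.mem_preimage, legX_hom_apply])
  have hM : Etale ((D ρ).obj j).hom := inferInstance
  refine ⟨⟨Set.range ((D ρ).obj j).hom, (Scheme.Hom.isOpenMap ((D ρ).obj j).hom).isOpen_range⟩,
    ⟨lft ρ j default, ?_⟩, ?_⟩
  · rw [← Scheme.Hom.comp_apply, lft_hom, hρ]
  rintro z ⟨v, hv⟩ hz
  have hsq : IsPullback (bcFst h ((D ρ).obj j)) ((EtCoh.bc h).obj ((D ρ).obj j)).hom ((D ρ).obj j).hom h :=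
    IsPullback.of_hasPullback ((D ρ).obj j).hom h
  obtain ⟨x, hx1, hx2⟩ := Scheme.exists_preimage_of_isPullback hsq v z hv
  have : x ∈ ((EtCoh.bc h).map ((D ρ).map g)).left ⁻¹' (((EtCoh.bc h).obj ((D ρ).obj (i₀ ρ))).hom ⁻¹' T) := by
    show ((EtCoh.bc h).obj ((D ρ).obj (i₀ ρ))).hom (((EtCoh.bc h).map ((D ρ).map g)).left x) ∈ T
    rw [bc_map_hom_apply]
    rw [show ((EtCoh.bc h).obj ((D ρ).obj j)).hom x = z from hx2]
    exact hz
  rw [hg] at this
  exact this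

theorem clInj_preimage {F Y : Scheme.{u}} (φ : F ⟶ Y) [IsFinite φ] [Etale φ] {V : Set Y} (hV : ClInj V) :
    ClInj (φ ⁻¹' V) := by
  intro C hC hCV
  have h1 : IsClopen (φ '' C) := ⟨φ.isClosedMap _ hC.isClosed, φ.isOpenMap _ hC.isOpen⟩
  have h2 : φ '' C ∩ V = ∅ := by
    ext z
    simp only [Set.mem_inter_iff, Set.mem_empty_iff_false, iff_false, not_and]
    rintro ⟨x, hx, rfl⟩ hz
    have : x ∈ C ∩ φ ⁻¹' V := ⟨hx, hz⟩
    rw [hCV] at this
    exact this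
  have h3 := hV _ h1 h2
  exact Set.image_eq_empty.1 h3

end K228.D1
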